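import Groth.Agent.TwistTorusL.Embed
import Mathlib.RingTheory.Flat.Basic

/-! Finite automorphism groups of a twisted one-dimensional torus. -/

namespace TwistTorusLib

open LaurentPolynomial Polynomial
open scoped TensorProduct

universe u

attribute [local instance] MvPolynomial.gradedAlgebra

variable {K : Type u} [Field K] {q : MvPolynomial (Fin 2) K} {L : Type u} [Field L] [Algebra K L]
  (D : QuadData K q L)

/-- The comparison map. -/
noncomputable def QuadData.Phi : L ⊗[K] UAlg q →ₐ[L] L[T;T⁻¹] :=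
  Algebra.TensorProduct.lift (Algebra.ofId L _) D.psi fun _ _ => Commute.all _ _

theorem QuadData.Phi_tmul (l : L) (z : UAlg q) : D.Phi (l ⊗ₜ z) = LaurentPolynomial.C l * D.psi z := by
  rw [QuadData.Phi, Algebra.TensorProduct.lift_tmul, Algebra.ofId_apply, LaurentPolynomial.C_eq_algebraMap]

theorem QuadData.exists_repr (z : L ⊗[K] UAlg q) :
    ∃ x y : UAlg q, z = 1 ⊗ₜ x + D.w ⊗ₜ y := by
  induction z using TensorProduct.induction_on with
  | zero => exact ⟨0, 0, by simp⟩
  | tmul l x =>
    obtain ⟨r, s, rfl⟩ := D.gen l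
    refine ⟨algebraMap K (UAlg q) r * x, algebraMap K (UAlg q) s * x, ?_⟩
    rw [TensorProduct.add_tmul, ← Algebra.smul_def r x, ← Algebra.smul_def s x, TensorProduct.tmul_smul,
      TensorProduct.tmul_smul, TensorProduct.smul_tmul', TensorProduct.smul_tmul', Algebra.smul_def r (1 : L),
      mul_one, Algebra.smul_def s D.w]
  | add x y hx hy =>
    obtain ⟨a, b, rfl⟩ := hx
    obtain ⟨a', b', rfl⟩ := hy
    exact ⟨a + a', b + b', by rw [TensorProduct.tmul_add, TensorProduct.tmul_add]; abel⟩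

theorem QuadData.Phi_injective (hq : q.IsHomogeneous 2) : Function.Injective D.Phi := by
  rw [injective_iff_map_eq_zero]
  intro z hz
  obtain ⟨x, y, rfl⟩ := D.exists_repr z
  obtain ⟨n, f, hf, hx⟩ := HomogeneousLocalization.Away.mk_surjective _ (hq : q ∈ _) x
  obtain ⟨m, g, hg, hy⟩ := HomogeneousLocalization.Away.mk_surjective _ (hq : q ∈ _) y
  rw [map_add, D.Phi_tmul, D.Phi_tmul, map_one, one_mul] at hz
  have hF : MvPolynomial.aeval D.pt (MvPolynomial.map (algebraMap K L) (f * q ^ m) +
      MvPolynomial.C D.w * MvPolynomial.map (algebraMap K L) (g * q ^ n)) = 0 := by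
    simp only [map_add, map_mul, map_pow, MvPolynomial.aeval_C, ← LaurentPolynomial.C_eq_algebraMap, ← D.evalPt_eq]
    rw [← D.psi_mk hq n f hf, ← D.psi_mk hq m g hg, hx, hy]
    linear_combination (D.evalPt q ^ n * D.evalPt q ^ m) * hz
  have hfh : (f * q ^ m).IsHomogeneous (2 * (n + m)) := by
    have := (show f.IsHomogeneous (n • 2) from hf).mul (hq.pow m)
    convert this using 1; simp; ring
  have hgh : (g * q ^ n).IsHomogeneous (2 * (n + m)) := by
    have := (show g.IsHomogeneous (m • 2) from hg).mul (hq.pow n)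
    convert this using 1; simp; ring
  have h0 := eq_zero_of_aeval_line D.hne ((hfh.map _).add ((hgh.map _).C_mul _)) hF
  have hfg : f * q ^ m = 0 ∧ g * q ^ n = 0 := by
    constructor <;> ext d <;> rw [MvPolynomial.coeff_zero]
    · have := congrArg (MvPolynomial.coeff d) h0
      rw [MvPolynomial.coeff_add, MvPolynomial.coeff_C_mul, MvPolynomial.coeff_map, MvPolynomial.coeff_map,
        MvPolynomial.coeff_zero, mul_comm D.w] at this
      exact (D.indep _ _ this).1
    · have := congrArg (MvPolynomial.coeff d) h0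
      rw [MvPolynomial.coeff_add, MvPolynomial.coeff_C_mul, MvPolynomial.coeff_map, MvPolynomial.coeff_map,
        MvPolynomial.coeff_zero, mul_comm D.w] at this
      exact (D.indep _ _ this).2
  have hq0 : q ≠ 0 := fun h => (by
    have h0' := D.hq.symm.trans (show MvPolynomial.map (algebraMap K L) q = 0 by simp [h])
    have h1 := congrArg (MvPolynomial.eval ![1, 0]) h0'
    simp [D.ha] at h1)
  have zero_of : ∀ (k : ℕ) (p : MvPolynomial (Fin 2) K) (hp : p ∈ MvPolynomial.homogeneousSubmodule (Fin 2) K (k • 2)),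
      p = 0 → HomogeneousLocalization.Away.mk _ (hq : q ∈ _) k p hp = 0 := by
    intro k p hp h
    apply HomogeneousLocalization.val_injective
    subst h
    erw [HomogeneousLocalization.Away.val_mk, HomogeneousLocalization.val_zero, Localization.mk_zero]
  rw [← hx, ← hy, zero_of n f hf (by simpa [hq0] using hfg.1), zero_of m g hg (by simpa [hq0] using hfg.2)]
  simp

theorem QuadData.Phi_surjective (hq : q.IsHomogeneous 2) : Function.Surjective D.Phi := by
  have hm : ∀ i j : Fin 2, (MvPolynomial.X i * MvPolynomial.X j : MvPolynomial (Fin 2) K) ∈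
      MvPolynomial.homogeneousSubmodule (Fin 2) K (1 • 2) := fun i j =>
    (MvPolynomial.isHomogeneous_X K i).mul (MvPolynomial.isHomogeneous_X K j)
  have hk : algebraMap K L D.a * (D.w' - D.w) ^ 2 ≠ 0 :=
    mul_ne_zero (by simpa using D.ha) (pow_ne_zero _ (sub_ne_zero.mpr D.hne))
  have hmono : ∀ i j : Fin 2, D.pt i * D.pt j * T (-1) ∈ D.Phi.range := by
    intro i j
    refine ⟨(algebraMap K L D.a * (D.w' - D.w) ^ 2) ⊗ₜ
      HomogeneousLocalization.Away.mk _ (hq : q ∈ _) 1 _ (hm i j), ?_⟩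
    show D.Phi _ = _
    rw [D.Phi_tmul]
    have := D.psi_mk hq 1 _ (hm i j)
    rw [pow_one, D.evalPt_q, map_mul D.evalPt, show D.evalPt (MvPolynomial.X i) = D.pt i from MvPolynomial.aeval_X _ _,
      show D.evalPt (MvPolynomial.X j) = D.pt j from MvPolynomial.aeval_X _ _] at this
    rw [← this]
    conv_lhs => rw [← mul_one (LaurentPolynomial.C (algebraMap K L D.a * (D.w' - D.w) ^ 2) * _), ← T_zero,
      show (0 : ℤ) = 1 + (-1) by norm_num, T_add]
    ring
  have hcomb : ∀ e : L, (D.pt 0 - LaurentPolynomial.C e * D.pt 1) ^ 2 * T (-1) ∈ D.Phi.range := by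
    intro e
    have : (D.pt 0 - LaurentPolynomial.C e * D.pt 1) ^ 2 * T (-1) =
        D.pt 0 * D.pt 0 * T (-1) - algebraMap L _ (2 * e) * (D.pt 0 * D.pt 1 * T (-1)) +
          algebraMap L _ (e ^ 2) * (D.pt 1 * D.pt 1 * T (-1)) := by
      simp only [← LaurentPolynomial.C_eq_algebraMap, map_mul, map_pow, map_ofNat]; ring
    rw [this]
    exact add_mem (sub_mem (hmono 0 0) (mul_mem (Subalgebra.algebraMap_mem _ _) (hmono 0 1)))
      (mul_mem (Subalgebra.algebraMap_mem _ _) (hmono 1 1))
  have hdT : ∀ n : ℤ, n = 1 ∨ n = -1 → T n ∈ D.Phi.range := by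
    intro n hn
    have hd : ((D.w' - D.w) ^ 2)⁻¹ * (D.w' - D.w) ^ 2 = 1 :=
      inv_mul_cancel₀ (pow_ne_zero _ (sub_ne_zero.mpr D.hne))
    have hd' : (LaurentPolynomial.C ((D.w' - D.w) ^ 2)⁻¹ : L[T;T⁻¹]) * LaurentPolynomial.C ((D.w' - D.w) ^ 2) = 1 := by
      rw [← map_mul, hd, map_one]
    rcases hn with rfl | rfl
    · have h1 : (T 1 : L[T;T⁻¹]) =
          algebraMap L _ ((D.w' - D.w) ^ 2)⁻¹ * ((D.pt 0 - LaurentPolynomial.C D.w * D.pt 1) ^ 2 * T (-1)) := by
        rw [← LaurentPolynomial.C_eq_algebraMap]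
        have hT : (T 1 : L[T;T⁻¹]) * T (-1) = 1 := by rw [← T_add, add_neg_cancel, T_zero]
        simp only [QuadData.pt, Matrix.cons_val_zero, Matrix.cons_val_one, map_pow, map_sub] at hd' ⊢
        linear_combination -(T 1 : L[T;T⁻¹]) * hd' -
          (LaurentPolynomial.C ((D.w' - D.w) ^ 2)⁻¹ * (LaurentPolynomial.C D.w' - LaurentPolynomial.C D.w) ^ 2 *
            (T 1 : L[T;T⁻¹])) * hT
      rw [h1]
      exact mul_mem (Subalgebra.algebraMap_mem _ _) (hcomb D.w)
    · have h1 : (T (-1) : L[T;T⁻¹]) =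
          algebraMap L _ ((D.w' - D.w) ^ 2)⁻¹ * ((D.pt 0 - LaurentPolynomial.C D.w' * D.pt 1) ^ 2 * T (-1)) := by
        rw [← LaurentPolynomial.C_eq_algebraMap]
        simp only [QuadData.pt, Matrix.cons_val_zero, Matrix.cons_val_one, map_pow, map_sub] at hd' ⊢
        linear_combination -(T (-1) : L[T;T⁻¹]) * hd'
      rw [h1]
      exact mul_mem (Subalgebra.algebraMap_mem _ _) (hcomb D.w')
  intro p
  have hmem : p ∈ D.Phi.range := by
    induction p using LaurentPolynomial.induction_on' with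
    | add p p' hp hp' => exact add_mem hp hp'
    | C_mul_T n l =>
      rw [LaurentPolynomial.C_eq_algebraMap]
      refine mul_mem (Subalgebra.algebraMap_mem _ _) ?_
      induction n using Int.induction_on with
      | zero => rw [T_zero]; exact one_mem _
      | succ n ih => rw [T_add]; exact mul_mem ih (hdT 1 (Or.inl rfl))
      | pred n ih => rw [sub_eq_add_neg, T_add]; exact mul_mem ih (hdT (-1) (Or.inr rfl))
  exact hmem

theorem QuadData.hom_ext {S : Type u} [CommRing S] (hq : q.IsHomogeneous 2) {α β : L[T;T⁻¹] →+* S}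
    (hC : ∀ l, α (LaurentPolynomial.C l) = β (LaurentPolynomial.C l)) (h : ∀ z, α (D.psi z) = β (D.psi z)) :
    α = β := by
  refine RingHom.ext fun p => ?_
  obtain ⟨x, rfl⟩ := D.Phi_surjective hq p
  induction x using TensorProduct.induction_on with
  | zero => simp
  | tmul l z => rw [D.Phi_tmul, map_mul, map_mul, hC, h]
  | add x y hx hy => rw [map_add, map_add, map_add, hx, hy]

/-- The conjugation of the split torus. -/
noncomputable def QuadData.conj : L[T;T⁻¹] →+* L[T;T⁻¹] :=
  LaurentPolynomial.eval₂ ((LaurentPolynomial.C).comp D.sigma.toRingHom) (isUnit_T (R := L) (-1)).unit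

theorem QuadData.conj_C (l : L) : D.conj (LaurentPolynomial.C l) = LaurentPolynomial.C (D.sigma l) := by
  simp [QuadData.conj, LaurentPolynomial.eval₂_C]

theorem QuadData.conj_T : D.conj (T 1) = T (-1) := by
  simp [QuadData.conj, LaurentPolynomial.eval₂_T]

theorem QuadData.conj_T_neg : D.conj (T (-1)) = T 1 := by
  refine left_inv_eq_right_inv (a := T (-1)) ?_ (by rw [← T_add, neg_add_cancel, T_zero])
  conv_lhs => arg 2; rw [← D.conj_T]
  rw [← map_mul, ← T_add, neg_add_cancel, T_zero, map_one]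

theorem QuadData.conj_evalPt {N : ℕ} {f : MvPolynomial (Fin 2) K} (hf : f.IsHomogeneous N) :
    D.conj (D.evalPt f) = (-T (-1)) ^ N * D.evalPt f := by
  have hC : ∀ k : K, D.conj (algebraMap K L[T;T⁻¹] k) = algebraMap K L[T;T⁻¹] k := fun k => by
    rw [IsScalarTower.algebraMap_apply K L L[T;T⁻¹], ← LaurentPolynomial.C_eq_algebraMap, D.conj_C,
      AlgHom.commutes]
  have hi : ∀ i, D.conj (D.pt i) = -T (-1) * D.pt i := by
    have hT : (T 1 : L[T;T⁻¹]) * T (-1) = 1 := by rw [← T_add, add_neg_cancel, T_zero]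
    intro i
    fin_cases i
    · simp only [QuadData.pt, Fin.zero_eta, Matrix.cons_val_zero, map_sub, map_mul, D.conj_C, D.conj_T,
        D.sigma_w, D.sigma_w']
      linear_combination LaurentPolynomial.C D.w' * hT
    · simp only [QuadData.pt, Fin.mk_one, Matrix.cons_val_one, Matrix.cons_val_zero, map_sub, map_one, D.conj_T]
      linear_combination hT
  rw [QuadData.evalPt, ← MvPolynomial.support_sum_monomial_coeff f, map_sum, map_sum, Finset.mul_sum]
  refine Finset.sum_congr rfl fun d hd => ?_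
  have hdN := hf (MvPolynomial.mem_support_iff.mp hd)
  simp [Finsupp.weight_apply, Finsupp.sum_fintype, Fin.sum_univ_two] at hdN
  rw [MvPolynomial.aeval_monomial, Finsupp.prod_fintype _ _ (fun _ => pow_zero _), Fin.prod_univ_two]
  simp only [map_mul, map_pow, hC, hi, mul_pow, ← hdN, pow_add]
  ring

theorem QuadData.conj_psi (hq : q.IsHomogeneous 2) (z : UAlg q) : D.conj (D.psi z) = D.psi z := by
  obtain ⟨n, f, hf, rfl⟩ := HomogeneousLocalization.Away.mk_surjective _ (hq : q ∈ _) z
  have h := D.psi_mk hq n f hf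
  have h' := congrArg D.conj h
  rw [map_mul, map_pow, D.conj_evalPt hq, D.conj_evalPt hf, ← h, mul_pow, ← pow_mul,
    show n • 2 = 2 * n by simp [mul_comm], mul_left_comm ((-T (-1)) ^ (2 * n))] at h'
  exact (((isUnit_T (R := L) (-1)).neg.pow (2 * n)).mul (D.isUnit_evalPt.pow n)).mul_right_cancel h'

/-- The automorphism of the split torus attached to an automorphism of the coordinate ring. -/
noncomputable def QuadData.ext (hq : q.IsHomogeneous 2) (g : UAlg q ≃ₐ[K] UAlg q) :
    L[T;T⁻¹] ≃ₐ[L] L[T;T⁻¹] :=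
  let e := AlgEquiv.ofBijective D.Phi ⟨D.Phi_injective hq, D.Phi_surjective hq⟩
  e.symm.trans ((Algebra.TensorProduct.congr AlgEquiv.refl g).trans e)

theorem QuadData.ext_psi (hq : q.IsHomogeneous 2) (g : UAlg q ≃ₐ[K] UAlg q) (z : UAlg q) :
    D.ext hq g (D.psi z) = D.psi (g z) := by
  have h : (AlgEquiv.ofBijective D.Phi ⟨D.Phi_injective hq, D.Phi_surjective hq⟩).symm (D.psi z) = 1 ⊗ₜ z := by
    rw [AlgEquiv.symm_apply_eq]
    show D.psi z = D.Phi (1 ⊗ₜ z)
    rw [D.Phi_tmul, map_one, one_mul]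
  simp only [QuadData.ext, AlgEquiv.trans_apply, h, Algebra.TensorProduct.congr_apply,
    Algebra.TensorProduct.map_tmul]
  show D.Phi ((1 : L) ⊗ₜ[K] g z) = _
  rw [D.Phi_tmul, map_one, one_mul]

theorem QuadData.psi_injective (hq : q.IsHomogeneous 2) : Function.Injective D.psi := fun x y h => by
  have := D.Phi_injective hq (a₁ := 1 ⊗ₜ x) (a₂ := 1 ⊗ₜ y) (by simp [D.Phi_tmul, h])
  exact Algebra.TensorProduct.includeRight_injective (algebraMap K L).injective this

theorem main (hK : ∀ n : ℕ, 0 < n → (Polynomial.X ^ n - 1 : Polynomial K).Splits) (hq : q.IsHomogeneous 2)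
    (G : Subgroup (UAlg q ≃+* UAlg q)) [Finite G] (D : QuadData K q L)
    (hG : ∀ g ∈ G, ∀ (k : K) (z : UAlg q), g (k • z) = k • g z) :
    (∀ g ∈ G, g ^ 2 = 1) ∧ Nat.card G ≤ 4 := by
  have hlin : ∀ g : G, ∀ k : K, g.1 (algebraMap K (UAlg q) k) = algebraMap K (UAlg q) k := fun g k => by
    rw [Algebra.algebraMap_eq_smul_one]
    exact (hG g.1 g.2 k 1).trans (by rw [map_one]; rfl)
  let gK : G → (UAlg q ≃ₐ[K] UAlg q) := fun g => AlgEquiv.ofRingEquiv (f := g.1) (hlin g)
  let e : G → (L[T;T⁻¹] ≃ₐ[L] L[T;T⁻¹]) := fun g => D.ext hq (gK g)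
  have heψ : ∀ g z, e g (D.psi z) = D.psi (g.1 z) := fun g z => D.ext_psi hq _ z
  have hemul : ∀ g h x, e (g * h) x = e g (e h x) := by
    intro g h x
    have := D.hom_ext hq (α := (e (g * h)).toRingEquiv.toRingHom)
      (β := ((e h).trans (e g)).toRingEquiv.toRingHom)
      (fun l => by
        show e (g * h) _ = e g (e h _)
        rw [LaurentPolynomial.C_eq_algebraMap, AlgEquiv.commutes, AlgEquiv.commutes, AlgEquiv.commutes])
      (fun z => by show e (g * h) (D.psi z) = e g (e h (D.psi z)); rw [heψ, heψ, heψ]; rfl)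
    exact congrArg (fun r : L[T;T⁻¹] →+* L[T;T⁻¹] => r x) this
  have hinj : ∀ g h : G, e g (T 1) = e h (T 1) → g = h := by
    intro g h hgh
    have := algHom_ext_T (φ := (e g).toAlgHom) (ψ := (e h).toAlgHom) hgh
    refine Subtype.ext (RingEquiv.ext fun z => D.psi_injective hq ?_)
    rw [← heψ, ← heψ]
    exact AlgHom.congr_fun this _
  have he1 : ∀ x, e 1 x = x := by
    intro x
    have := hemul 1 1 x
    rw [one_mul] at this
    exact ((e 1).injective this).symm
  have hpos : ∀ g : G, ∀ c, e g (T 1) = LaurentPolynomial.C c * T 1 → ∀ n : ℕ,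
      e (g ^ n) (T 1) = LaurentPolynomial.C (c ^ n) * T 1 := by
    intro g c hc n
    induction n with
    | zero => simp [he1]
    | succ n ih =>
      rw [pow_succ', hemul, ih, map_mul, hc, LaurentPolynomial.C_eq_algebraMap, AlgEquiv.commutes,
        ← LaurentPolynomial.C_eq_algebraMap, ← mul_assoc, ← map_mul, pow_succ]
  have hsq : ∀ g : G, ∀ c, e g (T 1) = LaurentPolynomial.C c * T 1 → c = 1 ∨ c = -1 := by
    intro g c hc
    have hN : 0 < Nat.card G := Nat.card_pos
    have h1 := hpos g c hc (Nat.card G)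
    rw [pow_card_eq_one', he1] at h1
    have hcN : c ^ Nat.card G = 1 := by
      have := C_mul_T_inj (c := (1 : L)) (d := c ^ Nat.card G) one_ne_zero (n := 1) (m := 1)
        (by rw [map_one, one_mul]; exact h1)
      exact this.2.symm
    have hc0 : c ≠ 0 := fun h => by simp [h, hN.ne'] at hcN
    obtain ⟨k, hk⟩ : ∃ k : K, algebraMap K L k = c := by
      have hs := hK (Nat.card G) hN
      have hroots := hs.roots_map (algebraMap K L)
      have hne : (Polynomial.map (algebraMap K L) (Polynomial.X ^ Nat.card G - 1)) ≠ 0 :=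
        ((Polynomial.monic_X_pow_sub_C (1 : K) hN.ne').map _).ne_zero
      have hmem : c ∈ (Polynomial.map (algebraMap K L) (Polynomial.X ^ Nat.card G - 1)).roots := by
        rw [Polynomial.mem_roots hne]
        simp [hcN]
      rw [hroots, Multiset.mem_map] at hmem
      obtain ⟨k, -, hk⟩ := hmem
      exact ⟨k, hk⟩
    have hconj := D.hom_ext hq (α := (e g).toRingEquiv.toRingHom.comp D.conj)
      (β := D.conj.comp (e g).toRingEquiv.toRingHom)
      (fun l => by
        show e g (D.conj _) = D.conj (e g _)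
        rw [D.conj_C, LaurentPolynomial.C_eq_algebraMap, LaurentPolynomial.C_eq_algebraMap, AlgEquiv.commutes,
          AlgEquiv.commutes, ← LaurentPolynomial.C_eq_algebraMap, ← LaurentPolynomial.C_eq_algebraMap, D.conj_C])
      (fun z => by
        show e g (D.conj (D.psi z)) = D.conj (e g (D.psi z))
        rw [D.conj_psi hq, heψ, D.conj_psi hq])
    have h2 : e g (D.conj (T 1)) = D.conj (e g (T 1)) :=
      congrArg (fun r : L[T;T⁻¹] →+* L[T;T⁻¹] => r (T 1)) hconj
    rw [D.conj_T, hc, map_mul, D.conj_C, D.conj_T, ← hk, AlgHom.commutes, hk, apply_T hc0 hc] at h2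
    have h3 := (C_mul_T_inj (inv_ne_zero hc0) h2).2
    exact sq_eq_one_iff.mp (by field_simp at h3; linear_combination -h3)
  have hneg : ∀ g : G, ∀ c, c ≠ 0 → e g (T 1) = LaurentPolynomial.C c * T (-1) → g ^ 2 = 1 := by
    intro g c hc0 hc
    refine hinj _ _ ?_
    rw [he1, sq, hemul, hc, map_mul, apply_T hc0 hc, neg_neg, LaurentPolynomial.C_eq_algebraMap,
      AlgEquiv.commutes, ← LaurentPolynomial.C_eq_algebraMap, ← mul_assoc, ← map_mul, mul_inv_cancel₀ hc0,
      map_one, one_mul]
  refine ⟨fun g hg => ?_, ?_⟩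
  · obtain ⟨c, hc0, hc | hc⟩ := exists_apply_T (e ⟨g, hg⟩)
    · have h2 : (⟨g, hg⟩ : G) ^ 2 = 1 := by
        refine hinj _ _ ?_
        rw [he1, hpos _ c hc 2]
        rcases hsq _ c hc with rfl | rfl <;> simp
      exact congrArg Subtype.val h2
    · exact congrArg Subtype.val (hneg ⟨g, hg⟩ c hc0 hc)
  · classical
    have := Fintype.ofFinite G
    let P : G → Prop := fun g => ∃ c, e g (T 1) = LaurentPolynomial.C c * T 1
    have hP : (Finset.univ.filter P).card ≤ 2 := by
      calc (Finset.univ.filter P).card = ((Finset.univ.filter P).image fun g => e g (T 1)).card :=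
            (Finset.card_image_of_injective _ fun g h => hinj g h).symm
        _ ≤ ({LaurentPolynomial.C 1 * T 1, LaurentPolynomial.C (-1) * T 1} : Finset L[T;T⁻¹]).card := by
            refine Finset.card_le_card fun x hx => ?_
            obtain ⟨g, hg, rfl⟩ := Finset.mem_image.mp hx
            obtain ⟨c, hc⟩ := (Finset.mem_filter.mp hg).2
            rcases hsq g c hc with rfl | rfl <;> simp [hc]
        _ ≤ 2 := Finset.card_le_two
    have hnP : (Finset.univ.filter fun g => ¬ P g).card ≤ 2 := by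
      rcases (Finset.univ.filter fun g => ¬ P g).eq_empty_or_nonempty with h | ⟨h0, hh0⟩
      · simp [h]
      refine le_trans ?_ hP
      refine Finset.card_le_card_of_injOn (fun g => g * h0) (fun g hg => ?_) (fun a _ b _ h => mul_right_cancel h)
      have key : ∀ g : G, ¬ P g → ∃ c, c ≠ 0 ∧ e g (T 1) = LaurentPolynomial.C c * T (-1) := fun g hg => by
        obtain ⟨c, hc0, hc | hc⟩ := exists_apply_T (e g)
        · exact absurd ⟨c, hc⟩ hg
        · exact ⟨c, hc0, hc⟩
      obtain ⟨c, hc0, hc⟩ := key g (Finset.mem_filter.mp hg).2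
      obtain ⟨d, hd0, hd⟩ := key h0 (Finset.mem_filter.mp hh0).2
      refine Finset.mem_filter.mpr ⟨Finset.mem_univ _, d * c⁻¹, ?_⟩
      rw [hemul, hd, map_mul, apply_T hc0 hc, neg_neg, LaurentPolynomial.C_eq_algebraMap, AlgEquiv.commutes,
        ← LaurentPolynomial.C_eq_algebraMap, ← mul_assoc, ← map_mul]
    rw [Nat.card_eq_fintype_card, ← Finset.card_univ,
      ← Finset.card_filter_add_card_filter_not (s := Finset.univ) P]
    omega

end TwistTorusLib
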