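import Groth.Agent.TwistTorusL.Laurent
import Mathlib.Algebra.Polynomial.SpecificDegree
import Mathlib.LinearAlgebra.TensorProduct.Basis
import Mathlib.RingTheory.MvPolynomial.Basic

/-! The coordinate ring of the line minus a quadratic point becomes Laurent polynomials. -/

namespace TwistTorusLib

open LaurentPolynomial Polynomial
open scoped TensorProduct

universe u

attribute [local instance] MvPolynomial.gradedAlgebra

variable {K : Type u} [Field K] {q : MvPolynomial (Fin 2) K}

abbrev UAlg (q : MvPolynomial (Fin 2) K) :=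
  HomogeneousLocalization.Away (MvPolynomial.homogeneousSubmodule (Fin 2) K) q

/-- The scalars in the coordinate ring. -/
noncomputable def scalarHom (q : MvPolynomial (Fin 2) K) : K →+* UAlg q where
  toFun k := k • 1
  map_one' := HomogeneousLocalization.val_injective _ (by simp [HomogeneousLocalization.val_smul])
  map_mul' k l := HomogeneousLocalization.val_injective _ (by
    simp [HomogeneousLocalization.val_smul, HomogeneousLocalization.val_mul, smul_smul, mul_comm])
  map_zero' := HomogeneousLocalization.val_injective _ (by simp [HomogeneousLocalization.val_smul])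
  map_add' k l := HomogeneousLocalization.val_injective _ (by
    simp [HomogeneousLocalization.val_smul, HomogeneousLocalization.val_add, add_smul])

noncomputable instance algU (q : MvPolynomial (Fin 2) K) : Algebra K (UAlg q) where
  smul k z := k • z
  algebraMap := scalarHom q
  commutes' _ _ := mul_comm _ _
  smul_def' k z := HomogeneousLocalization.val_injective _ (by
    simp [scalarHom, HomogeneousLocalization.val_smul, HomogeneousLocalization.val_mul]
    exact HomogeneousLocalization.val_smul _ k z)

theorem exists_coeff (hq : q.IsHomogeneous 2) : q =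
    MvPolynomial.C (q.coeff (Finsupp.single 0 2)) * MvPolynomial.X 0 ^ 2 +
      MvPolynomial.C (q.coeff (Finsupp.single 0 1 + Finsupp.single 1 1)) * (MvPolynomial.X 0 * MvPolynomial.X 1) +
      MvPolynomial.C (q.coeff (Finsupp.single 1 2)) * MvPolynomial.X 1 ^ 2 := by
  classical
  ext d
  simp only [sq, MvPolynomial.X, MvPolynomial.monomial_mul, ← Finsupp.single_add, one_mul,
    MvPolynomial.coeff_add, MvPolynomial.coeff_C_mul, MvPolynomial.coeff_monomial]
  by_cases hd : q.coeff d = 0
  · rw [hd]; split_ifs <;> subst_vars <;> simp_all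
  · have h2 := hq hd
    simp [Finsupp.weight_apply, Finsupp.sum_fintype, Fin.sum_univ_two] at h2
    obtain h | h | h : d 0 = 2 ∨ d 0 = 1 ∨ d 0 = 0 := by omega
    · obtain rfl : d = Finsupp.single 0 2 := by
        ext i; fin_cases i <;> simp [h] <;> omega
      simp [Finsupp.ext_iff, Fin.forall_fin_two]
    · obtain rfl : d = Finsupp.single 0 1 + Finsupp.single 1 1 := by
        ext i; fin_cases i <;> simp [h] <;> omega
      simp [Finsupp.ext_iff, Fin.forall_fin_two]
    · obtain rfl : d = Finsupp.single 1 2 := by
        ext i; fin_cases i <;> simp [h] <;> omega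
      simp [Finsupp.ext_iff, Fin.forall_fin_two]

variable (K) in
/-- Quadratic data: `q = a x² + b x y + c y²` with conjugate roots `w ≠ w'` in `L`. -/
structure QuadData (q : MvPolynomial (Fin 2) K) (L : Type u) [Field L] [Algebra K L] where
  a : K
  w : L
  w' : L
  sigma : L →ₐ[K] L
  ha : a ≠ 0
  hne : w' ≠ w
  hq : MvPolynomial.map (algebraMap K L) q = MvPolynomial.C (algebraMap K L a) *
    (MvPolynomial.X 0 - MvPolynomial.C w * MvPolynomial.X 1) *
    (MvPolynomial.X 0 - MvPolynomial.C w' * MvPolynomial.X 1)
  sigma_w : sigma w = w'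
  sigma_w' : sigma w' = w
  gen : ∀ l : L, ∃ r s : K, l = algebraMap K L r + algebraMap K L s * w
  indep : ∀ r s : K, algebraMap K L r + algebraMap K L s * w = 0 → r = 0 ∧ s = 0

theorem exists_quadData (hq : q.IsHomogeneous 2) (hirr : Irreducible q)
    (hdisc : (q.coeff (Finsupp.single 0 1 + Finsupp.single 1 1)) ^ 2 -
      4 * q.coeff (Finsupp.single 0 2) * q.coeff (Finsupp.single 1 2) ≠ 0) :
    ∃ (L : Type u) (_ : Field L) (_ : Algebra K L), Nonempty (QuadData K q L) := by
  set a := q.coeff (Finsupp.single 0 2)
  set b := q.coeff (Finsupp.single 0 1 + Finsupp.single 1 1)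
  set c := q.coeff (Finsupp.single 1 2)
  have hqe : q = MvPolynomial.C a * MvPolynomial.X 0 ^ 2 +
      MvPolynomial.C b * (MvPolynomial.X 0 * MvPolynomial.X 1) + MvPolynomial.C c * MvPolynomial.X 1 ^ 2 :=
    exists_coeff hq
  have hdeg : ∀ (x : MvPolynomial (Fin 2) K), IsUnit x → ∀ v : Fin 2 → K, MvPolynomial.eval v x ≠ 0 :=
    fun x hx v => (hx.map (MvPolynomial.eval v)).ne_zero
  have ha : a ≠ 0 := by
    intro ha
    have hfac : q = MvPolynomial.X 1 * (MvPolynomial.C b * MvPolynomial.X 0 + MvPolynomial.C c * MvPolynomial.X 1) := by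
      rw [hqe, ha, map_zero]; ring
    rcases hirr.isUnit_or_isUnit hfac with h | h
    · exact hdeg _ h 0 (by simp)
    · exact hdeg _ h 0 (by simp)
  have hnr : ∀ r : K, a * r ^ 2 + b * r + c ≠ 0 := by
    intro r hr
    have hfac : q = (MvPolynomial.X 0 - MvPolynomial.C r * MvPolynomial.X 1) *
        (MvPolynomial.C a * MvPolynomial.X 0 + MvPolynomial.C (a * r + b) * MvPolynomial.X 1) := by
      rw [hqe, show c = -(a * r ^ 2 + b * r) by linear_combination hr]
      simp only [map_add, map_mul, map_neg, map_pow]
      ring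
    rcases hirr.isUnit_or_isUnit hfac with h | h
    · exact hdeg _ h 0 (by simp)
    · exact hdeg _ h 0 (by simp)
  let f : K[X] := Polynomial.X ^ 2 + Polynomial.C (b / a) * Polynomial.X + Polynomial.C (c / a)
  have hfm : f.Monic := by simp only [f]; monicity!
  have hfd : f.natDegree = 2 := by simp only [f]; compute_degree!
  haveI : Fact (Irreducible f) := ⟨Polynomial.irreducible_of_degree_le_three_of_not_isRoot
    (by rw [hfd]; decide) fun r hr => hnr r (by
      have : r ^ 2 + b / a * r + c / a = 0 := by simpa [f] using hr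
      field_simp at this
      linear_combination this)⟩
  let w : (AdjoinRoot f) := AdjoinRoot.root f
  let w' : (AdjoinRoot f) := -algebraMap K (AdjoinRoot f) (b / a) - w
  have hw : w ^ 2 + algebraMap K (AdjoinRoot f) (b / a) * w + algebraMap K (AdjoinRoot f) (c / a) = 0 := by
    have := AdjoinRoot.eval₂_root f
    rw [← AdjoinRoot.algebraMap_eq] at this
    simpa [f, w] using this
  have hw' : aeval w' f = 0 := by
    simp only [f, map_add, map_mul, map_pow, aeval_X, aeval_C, w']
    linear_combination hw
  refine ⟨(AdjoinRoot f), inferInstance, inferInstance, ⟨{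
    a := a, w := w, w' := w'
    sigma := AdjoinRoot.liftAlgHom f (Algebra.ofId K (AdjoinRoot f)) w' hw'
    ha := ha
    hne := fun h => ?_
    hq := ?_
    sigma_w := AdjoinRoot.liftAlgHom_root ..
    sigma_w' := by
      show AdjoinRoot.liftAlgHom f (Algebra.ofId K (AdjoinRoot f)) w' hw' (-algebraMap K (AdjoinRoot f) (b / a) - w) = w
      simp only [w]
      rw [map_sub, map_neg, AlgHom.commutes]
      erw [AdjoinRoot.liftAlgHom_root]
      simp only [w']
      ring
    gen := fun l => ?_
    indep := fun r s h => ?_ }⟩⟩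
  · refine hdisc ((algebraMap K (AdjoinRoot f)).injective ?_)
    have h1 : algebraMap K (AdjoinRoot f) b + 2 * algebraMap K (AdjoinRoot f) a * w = 0 := by
      have h' : algebraMap K (AdjoinRoot f) (b / a) + 2 * w = 0 := by linear_combination -h
      have hA : algebraMap K (AdjoinRoot f) a ≠ 0 := by simpa using ha
      rw [map_div₀] at h'
      field_simp at h'
      linear_combination h'
    have h2 : algebraMap K (AdjoinRoot f) a * w ^ 2 + algebraMap K (AdjoinRoot f) b * w + algebraMap K (AdjoinRoot f) c = 0 := by
      have := congrArg (algebraMap K (AdjoinRoot f) a * ·) hw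
      simp only [mul_zero, mul_add, ← mul_assoc, ← map_mul, mul_div_cancel₀ _ ha] at this
      exact this
    simp only [map_sub, map_mul, map_pow, map_ofNat, map_zero]
    linear_combination (algebraMap K (AdjoinRoot f) b + 2 * algebraMap K (AdjoinRoot f) a * w) * h1 - 4 * algebraMap K (AdjoinRoot f) a * h2
  · rw [hqe]
    have e1 : (MvPolynomial.C (algebraMap K (AdjoinRoot f) b) : MvPolynomial (Fin 2) (AdjoinRoot f)) =
        -(MvPolynomial.C (algebraMap K (AdjoinRoot f) a)) * (MvPolynomial.C w + MvPolynomial.C w') := by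
      rw [← map_add, neg_mul, ← map_mul, ← map_neg]
      congr 1
      have hA : algebraMap K (AdjoinRoot f) a ≠ 0 := by simpa using ha
      simp only [w', map_div₀]
      field_simp
      ring
    have e2 : (MvPolynomial.C (algebraMap K (AdjoinRoot f) c) : MvPolynomial (Fin 2) (AdjoinRoot f)) =
        MvPolynomial.C (algebraMap K (AdjoinRoot f) a) * (MvPolynomial.C w * MvPolynomial.C w') := by
      rw [← map_mul, ← map_mul]
      congr 1
      have := congrArg (algebraMap K (AdjoinRoot f) a * ·) hw
      simp only [mul_zero, mul_add, map_div₀, mul_div_cancel₀ _ (show algebraMap K (AdjoinRoot f) a ≠ 0 by simpa using ha)] at this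
      simp only [w', map_div₀]
      linear_combination this
    simp only [map_add, map_mul, map_pow, MvPolynomial.map_C, MvPolynomial.map_X, e1, e2]
    ring
  · obtain ⟨p, rfl⟩ := AdjoinRoot.mk_surjective l
    refine ⟨(p %ₘ f).coeff 0, (p %ₘ f).coeff 1, ?_⟩
    have h1 : AdjoinRoot.mk f p = AdjoinRoot.mk f (p %ₘ f) :=
      AdjoinRoot.mk_eq_mk.mpr ⟨p /ₘ f, by linear_combination -(Polynomial.modByMonic_add_div p f)⟩
    have hlt : (p %ₘ f).natDegree ≤ 1 := by
      have := Polynomial.natDegree_modByMonic_lt p hfm (by intro h; rw [h] at hfd; simp at hfd)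
      omega
    rw [h1]
    conv_lhs => rw [Polynomial.eq_X_add_C_of_natDegree_le_one hlt]
    show _ = AdjoinRoot.of f _ + AdjoinRoot.of f _ * AdjoinRoot.root f
    simp
    ring
  · by_cases hs : s = 0
    · subst hs
      simp at h
      exact ⟨by simpa using h, rfl⟩
    · exfalso
      have hwK : w = algebraMap K (AdjoinRoot f) (-r / s) := by
        rw [map_div₀, map_neg, eq_div_iff (by simpa using hs)]
        linear_combination h
      apply hnr (-r / s)
      apply (algebraMap K (AdjoinRoot f)).injective
      rw [hwK] at hw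
      rw [← map_pow, ← map_mul, ← map_add, ← map_add, map_eq_zero] at hw
      rw [map_zero, map_eq_zero]
      field_simp at hw ⊢
      linear_combination hw

variable {L : Type u} [Field L] [Algebra K L] (D : QuadData K q L)

/-- The parametrised line. -/
noncomputable def QuadData.pt : Fin 2 → L[T;T⁻¹] :=
  ![LaurentPolynomial.C D.w' * T 1 - LaurentPolynomial.C D.w, T 1 - 1]

/-- Evaluation at the parametrised line. -/
noncomputable def QuadData.evalPt : MvPolynomial (Fin 2) K →ₐ[K] L[T;T⁻¹] := MvPolynomial.aeval D.pt

theorem QuadData.evalPt_eq (p : MvPolynomial (Fin 2) K) :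
    D.evalPt p = MvPolynomial.aeval D.pt (MvPolynomial.map (algebraMap K L) p) :=
  (MvPolynomial.aeval_map_algebraMap L _ _).symm

theorem QuadData.evalPt_q : D.evalPt q =
    LaurentPolynomial.C (algebraMap K L D.a * (D.w' - D.w) ^ 2) * T 1 := by
  rw [D.evalPt_eq, D.hq]
  simp only [map_mul, map_sub, map_pow, MvPolynomial.aeval_C, MvPolynomial.aeval_X,
    ← LaurentPolynomial.C_eq_algebraMap, QuadData.pt, Matrix.cons_val_zero, Matrix.cons_val_one]
  ring

theorem QuadData.isUnit_evalPt : IsUnit (D.evalPt q) := by
  rw [D.evalPt_q]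
  refine (IsUnit.map _ ?_).mul (isUnit_T 1)
  exact (mul_ne_zero (by simpa using D.ha) (pow_ne_zero _ (sub_ne_zero.mpr D.hne))).isUnit

/-- The embedding of the coordinate ring. -/
noncomputable def QuadData.psi : UAlg q →ₐ[K] L[T;T⁻¹] where
  toRingHom := (IsLocalization.Away.lift q (g := D.evalPt.toRingHom) D.isUnit_evalPt :
    Localization.Away q →+* L[T;T⁻¹]).comp (algebraMap (UAlg q) (Localization.Away q))
  commutes' k := by
    show IsLocalization.Away.lift q D.isUnit_evalPt ((k • (1 : UAlg q)).val) = _
    rw [HomogeneousLocalization.val_smul, HomogeneousLocalization.val_one, Algebra.smul_def, mul_one,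
      IsScalarTower.algebraMap_apply K (MvPolynomial (Fin 2) K) (Localization.Away q),
      IsLocalization.Away.lift_eq, AlgHom.toRingHom_eq_coe, RingHom.coe_coe, AlgHom.commutes]

theorem QuadData.psi_mk (hq2 : q ∈ MvPolynomial.homogeneousSubmodule (Fin 2) K 2) (n : ℕ)
    (f : MvPolynomial (Fin 2) K) (hf : f ∈ MvPolynomial.homogeneousSubmodule (Fin 2) K (n • 2)) :
    D.psi (HomogeneousLocalization.Away.mk _ hq2 n f hf) * D.evalPt q ^ n = D.evalPt f := by
  show IsLocalization.Away.lift q D.isUnit_evalPt ((HomogeneousLocalization.Away.mk _ hq2 n f hf).val) * _ = _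
  rw [HomogeneousLocalization.Away.val_mk, Localization.mk_eq_mk']
  have := congrArg (IsLocalization.Away.lift q (g := D.evalPt.toRingHom) D.isUnit_evalPt)
    (IsLocalization.mk'_spec (Localization.Away q) f (⟨q ^ n, n, rfl⟩ : Submonoid.powers q))
  rw [map_mul, IsLocalization.Away.lift_eq, IsLocalization.Away.lift_eq] at this
  simpa using this

end TwistTorusLib
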