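import Mathlib.Algebra.Polynomial.Laurent
import Mathlib.RingTheory.MvPolynomial.Homogeneous
import Mathlib.RingTheory.GradedAlgebra.HomogeneousLocalization
import Mathlib.RingTheory.AdjoinRoot
import Mathlib.RingTheory.TensorProduct.Maps
import Mathlib.Tactic

/-! Units and automorphisms of Laurent polynomial rings; binary forms on a parametrised line. -/

namespace TwistTorusLib

open LaurentPolynomial Polynomial
open scoped TensorProduct

universe u

variable {L : Type u} [Field L]

theorem coeff_C_mul_T (c : L) (n m : ℤ) :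
    (LaurentPolynomial.C c * T n : L[T;T⁻¹]).coeff m = if n = m then c else 0 := by
  rw [← single_eq_C_mul_T]
  rw [AddMonoidAlgebra.coeff_single, Finsupp.single_apply]

theorem C_mul_T_inj {c d : L} {n m : ℤ} (hc : c ≠ 0)
    (h : (LaurentPolynomial.C c * T n : L[T;T⁻¹]) = LaurentPolynomial.C d * T m) : n = m ∧ c = d := by
  have h1 := congrArg (fun f : L[T;T⁻¹] => f.coeff n) h
  simp only [coeff_C_mul_T, if_true] at h1
  by_cases hm : m = n
  · rw [if_pos hm] at h1; exact ⟨hm.symm, h1⟩
  · rw [if_neg hm] at h1; exact absurd h1 hc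

theorem exists_eq_C_mul_T {f : L[T;T⁻¹]} (hf : IsUnit f) :
    ∃ c : L, ∃ n : ℤ, c ≠ 0 ∧ f = LaurentPolynomial.C c * T n := by
  obtain ⟨g, hg⟩ := hf.exists_right_inv
  obtain ⟨a, p, hp⟩ := exists_T_pow f
  obtain ⟨b, p', hp'⟩ := exists_T_pow g
  have hpp : p * p' = (Polynomial.X : L[X]) ^ (a + b) := by
    apply Polynomial.toLaurent_injective
    rw [map_mul, hp, hp', Polynomial.toLaurent_X_pow, Nat.cast_add, T_add, mul_mul_mul_comm, hg, one_mul]
  obtain ⟨i, -, hi⟩ := (dvd_prime_pow Polynomial.prime_X _).mp ⟨p', hpp.symm⟩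
  obtain ⟨u, hu⟩ := hi.symm
  obtain ⟨c, hc, hcu⟩ := Polynomial.isUnit_iff.mp u.isUnit
  refine ⟨c, (i : ℤ) - a, hc.ne_zero, ?_⟩
  rw [← hu, ← hcu, map_mul, Polynomial.toLaurent_X_pow, Polynomial.toLaurent_C] at hp
  have h := congrArg (· * T (-(a : ℤ))) hp
  simp only [mul_T_assoc, add_neg_cancel, T_zero, mul_one] at h
  rw [← h, T_mul (i : ℤ), mul_T_assoc, sub_eq_add_neg]

theorem algHom_ext_T {S : Type*} [CommRing S] [Algebra L S] {φ ψ : L[T;T⁻¹] →ₐ[L] S}
    (h : φ (T 1) = ψ (T 1)) : φ = ψ := by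
  have hneg : φ (T (-1)) = ψ (T (-1)) := by
    refine left_inv_eq_right_inv (a := φ (T 1)) ?_ ?_
    · rw [← map_mul, ← T_add, neg_add_cancel, T_zero, map_one]
    · rw [h, ← map_mul, ← T_add, add_neg_cancel, T_zero, map_one]
  apply AlgHom.ext
  intro f
  induction f using LaurentPolynomial.induction_on' with
  | add p q hp hq => rw [map_add, map_add, hp, hq]
  | C_mul_T n a =>
    rw [map_mul, map_mul, LaurentPolynomial.C_eq_algebraMap, AlgHom.commutes, AlgHom.commutes]
    congr 1
    induction n using Int.induction_on with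
    | zero => rw [T_zero, map_one, map_one]
    | succ n ih => rw [T_add, map_mul, map_mul, ih, h]
    | pred n ih => rw [sub_eq_add_neg, T_add, map_mul, map_mul, ih, hneg]

theorem apply_T {g : L[T;T⁻¹] ≃ₐ[L] L[T;T⁻¹]} {c : L} {m : ℤ} (hc : c ≠ 0)
    (hg : g (T 1) = LaurentPolynomial.C c * T m) : g (T (-1)) = LaurentPolynomial.C c⁻¹ * T (-m) := by
  refine left_inv_eq_right_inv (a := g (T 1)) ?_ ?_
  · rw [← map_mul, ← T_add, neg_add_cancel, T_zero, map_one]
  · rw [hg, mul_mul_mul_comm, ← map_mul, mul_inv_cancel₀ hc, map_one, one_mul, ← T_add, add_neg_cancel, T_zero]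

theorem exists_apply_T (g : L[T;T⁻¹] ≃ₐ[L] L[T;T⁻¹]) :
    ∃ c : L, c ≠ 0 ∧ (g (T 1) = LaurentPolynomial.C c * T 1 ∨ g (T 1) = LaurentPolynomial.C c * T (-1)) := by
  obtain ⟨c, m, hc, hm⟩ := exists_eq_C_mul_T ((isUnit_T (R := L) 1).map g)
  obtain ⟨c', m', hc', hm'⟩ := exists_eq_C_mul_T ((isUnit_T (R := L) 1).map g.symm)
  have hz : ∀ z : ℤ, ∃ d, g (T z) = LaurentPolynomial.C d * T (m * z) := by
    intro z
    induction z using Int.induction_on with
    | zero => exact ⟨1, by simp⟩
    | succ n ih =>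
      obtain ⟨d, hd⟩ := ih
      exact ⟨d * c, by rw [T_add, map_mul, hd, hm, mul_mul_mul_comm, ← map_mul, ← T_add, mul_add, mul_one]⟩
    | pred n ih =>
      obtain ⟨d, hd⟩ := ih
      exact ⟨d * c⁻¹, by
        rw [sub_eq_add_neg, T_add, map_mul, hd, apply_T hc hm, mul_mul_mul_comm, ← map_mul, ← T_add, mul_add,
          mul_neg_one]⟩
  obtain ⟨d, hd⟩ := hz m'
  have h1 : (T 1 : L[T;T⁻¹]) = LaurentPolynomial.C (c' * d) * T (m * m') := by
    rw [map_mul, mul_assoc, ← hd]
    conv_lhs => rw [← g.apply_symm_apply (T 1), hm', map_mul, LaurentPolynomial.C_eq_algebraMap, AlgEquiv.commutes]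
    rw [LaurentPolynomial.C_eq_algebraMap]
  have h2 := C_mul_T_inj (c := (1 : L)) (d := c' * d) one_ne_zero (n := 1) (m := m * m')
    (by rw [map_one, one_mul]; exact h1)
  refine ⟨c, hc, ?_⟩
  rcases Int.eq_one_or_neg_one_of_mul_eq_one h2.1.symm with rfl | rfl
  · exact Or.inl hm
  · exact Or.inr hm

/-- A binary form vanishing on the parametrised line `(w' T − w, T − 1)` is zero. -/
theorem eq_zero_of_aeval_line {w w' : L} (hne : w' ≠ w) {F : MvPolynomial (Fin 2) L} {N : ℕ}
    (hF : F.IsHomogeneous N)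
    (h : MvPolynomial.aeval ![LaurentPolynomial.C w' * T 1 - LaurentPolynomial.C w, T 1 - 1] F = 0) : F = 0 := by
  classical
  let τ : MvPolynomial (Fin 2) L →ₐ[L] MvPolynomial (Fin 2) L := MvPolynomial.aeval
    ![MvPolynomial.C w' * MvPolynomial.X 0 - MvPolynomial.C w * MvPolynomial.X 1,
      MvPolynomial.X 0 - MvPolynomial.X 1]
  let η : MvPolynomial (Fin 2) L →ₐ[L] MvPolynomial (Fin 2) L := MvPolynomial.aeval
    ![MvPolynomial.C (w' - w)⁻¹ * (MvPolynomial.X 0 - MvPolynomial.C w * MvPolynomial.X 1),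
      MvPolynomial.C (w' - w)⁻¹ * (MvPolynomial.X 0 - MvPolynomial.C w' * MvPolynomial.X 1)]
  have hητ : η.comp τ = AlgHom.id L _ := by
    refine MvPolynomial.algHom_ext fun i => ?_
    have hC : (MvPolynomial.C (w' - w)⁻¹ : MvPolynomial (Fin 2) L) * (MvPolynomial.C w' - MvPolynomial.C w) = 1 := by
      rw [← map_sub, ← map_mul, inv_mul_cancel₀ (sub_ne_zero.mpr hne), map_one]
    fin_cases i
    · simp [η, τ]
      linear_combination (MvPolynomial.X 0) * hC
    · simp [η, τ]
      linear_combination (MvPolynomial.X 1) * hC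
  have hhom : (τ F).IsHomogeneous N := by
    refine hF.aeval _ (n := 1) ?_ |> fun h => by simpa using h
    intro i
    fin_cases i
    · exact ((MvPolynomial.isHomogeneous_X L _).C_mul _).sub ((MvPolynomial.isHomogeneous_X L _).C_mul _)
    · exact (MvPolynomial.isHomogeneous_X L _).sub (MvPolynomial.isHomogeneous_X L _)
  let ev : MvPolynomial (Fin 2) L →ₐ[L] Polynomial L := MvPolynomial.aeval ![Polynomial.X, 1]
  have hev : ev (τ F) = 0 := by
    apply Polynomial.toLaurent_injective
    rw [map_zero, ← h, ← Polynomial.toLaurentAlg_apply, ← AlgHom.comp_apply, ← AlgHom.comp_apply]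
    congr 1
    refine MvPolynomial.algHom_ext fun i => ?_
    fin_cases i <;> simp [ev, τ, Polynomial.toLaurentAlg_apply]
  have hτ : τ F = 0 := by
    ext d
    rw [MvPolynomial.coeff_zero]
    by_contra hd
    have hdeg := hhom hd
    have hc := congrArg (fun p => Polynomial.coeff p (d 0)) hev
    simp only [Polynomial.coeff_zero] at hc
    rw [← MvPolynomial.support_sum_monomial_coeff (τ F), map_sum, Polynomial.finsetSum_coeff,
      Finset.sum_eq_single d] at hc
    · apply hd
      simpa [ev, MvPolynomial.aeval_monomial, Finsupp.prod_fintype, Fin.prod_univ_two, Polynomial.coeff_C_mul,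
        Polynomial.algebraMap_eq] using hc
    · intro d' hd' hne'
      have hdeg' := hhom (MvPolynomial.mem_support_iff.mp hd')
      have : d' 0 ≠ d 0 := fun e => hne' (by
        simp [Finsupp.weight_apply, Finsupp.sum_fintype, Fin.sum_univ_two] at hdeg hdeg'
        ext i; fin_cases i
        · exact e
        · show d' 1 = d 1; omega)
      simp [ev, MvPolynomial.aeval_monomial, Finsupp.prod_fintype, Fin.prod_univ_two, Polynomial.coeff_C_mul,
        Polynomial.algebraMap_eq, Ne.symm this]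
    · intro h'; exact absurd (MvPolynomial.mem_support_iff.mpr hd) h'
  have := AlgHom.congr_fun hητ F
  rw [AlgHom.comp_apply, hτ, map_zero] at this
  exact this.symm

end TwistTorusLib
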